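import Cfsg.Agent.Lib.LocEven.Replacement
import Cfsg.Agent.Lib.LocEven.Card
import Cfsg.Agent.Lib.PLocal.GlaubermanReplacement
import Cfsg.Agent.Lib.Solvable.Basic
import Mathlib.Tactic.Group

/-!
Replacement of an abelian subgroup of largest order along commutators with one element, and the
simultaneous realisation of endomorphisms by its elements.
-/

set_option autoImplicit false
set_option linter.style.haveILetI false

open scoped commutatorElement

namespace CfsgLib.JTransfer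

open Subgroup

variable {H : Type*} [Group H]

theorem comm_mul_left (a b y : H) : ⁅a * b, y⁆ = a * ⁅b, y⁆ * a⁻¹ * ⁅a, y⁆ := by
  simp only [commutatorElement_def]; group

theorem comm_mul_right (x y z : H) : ⁅x, y * z⁆ = ⁅x, y⁆ * (y * ⁅x, z⁆ * y⁻¹) := by
  simp only [commutatorElement_def]; group

theorem conj_eq_comm_mul (a z : H) : a * z * a⁻¹ = ⁅a, z⁆ * z := by
  simp only [commutatorElement_def]; group

theorem comm_eq_one {a b : H} (h : a * b = b * a) : ⁅a, b⁆ = 1 :=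
  commutatorElement_eq_one_iff_mul_comm.mpr h

/-- For commuting `a` and `b` the iterated commutators can be taken in either order. -/
theorem comm_swap {a b y : H} (hab : a * b = b * a) (h : ⁅a, y⁆ * ⁅b, y⁆ = ⁅b, y⁆ * ⁅a, y⁆) :
    ⁅a, ⁅b, y⁆⁆ = ⁅b, ⁅a, y⁆⁆ := by
  have h1 := comm_mul_left a b y
  rw [hab, comm_mul_left b a y, conj_eq_comm_mul, conj_eq_comm_mul, mul_assoc, mul_assoc, h] at h1
  exact (mul_right_cancel h1).symm

/-- The subgroup generated by the commutators of `y` with the elements of `A`. -/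
def commSet (A : Subgroup H) (y : H) : Subgroup H :=
  Subgroup.closure ((fun a => ⁅a, y⁆) '' (A : Set H))

theorem comm_mem_commSet {A : Subgroup H} {a y : H} (ha : a ∈ A) : ⁅a, y⁆ ∈ commSet A y :=
  subset_closure ⟨a, ha, rfl⟩

theorem commSet_le {A K : Subgroup H} {y : H} (h : ∀ a ∈ A, ⁅a, y⁆ ∈ K) : commSet A y ≤ K :=
  (closure_le K).mpr (by rintro _ ⟨a, ha, rfl⟩; exact h a ha)

/-- `A` normalizes the commutator subgroup. -/
theorem conj_mem_commSet {A : Subgroup H} {y a x : H} (ha : a ∈ A) (hx : x ∈ commSet A y) :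
    a * x * a⁻¹ ∈ commSet A y := by
  refine (show commSet A y ≤ (commSet A y).comap (MulAut.conj a).toMonoidHom from
    commSet_le fun b hb => ?_) hx
  show a * ⁅b, y⁆ * a⁻¹ ∈ commSet A y
  have e : a * ⁅b, y⁆ * a⁻¹ = ⁅a * b, y⁆ * ⁅a, y⁆⁻¹ := by rw [comm_mul_left]; group
  rw [e]
  exact mul_mem (comm_mem_commSet (mul_mem ha hb)) (inv_mem (comm_mem_commSet ha))

theorem comm_mem_commSet_right {A : Subgroup H} {y a x : H} (ha : a ∈ A) (hx : x ∈ commSet A y) :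
    ⁅a, x⁆ ∈ commSet A y := by
  rw [commutatorElement_def]
  exact mul_mem (conj_mem_commSet ha hx) (inv_mem hx)

variable {A T : Subgroup H} {y : H}

/-- Elements with commutators congruent modulo `A` differ by an element fixing every commutator. -/
theorem mem_centralizer_commSet (hA : IsMulCommutative A) (hT : IsMulCommutative T)
    (hy : ∀ a ∈ A, ⁅a, y⁆ ∈ T) {a b : H} (ha : a ∈ A) (hb : b ∈ A)
    (hab : ⁅a, y⁆⁻¹ * ⁅b, y⁆ ∈ A) : a⁻¹ * b ∈ centralizer (commSet A y : Set H) := by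
  set e := a⁻¹ * b with he
  have heA : e ∈ A := mul_mem (inv_mem ha) hb
  have h1 : ⁅b, y⁆ = a * ⁅e, y⁆ * a⁻¹ * ⁅a, y⁆ := by
    rw [← comm_mul_left, he, mul_inv_cancel_left]
  have hconjT : a * ⁅e, y⁆ * a⁻¹ ∈ T := by
    have e2 : a * ⁅e, y⁆ * a⁻¹ = ⁅b, y⁆ * ⁅a, y⁆⁻¹ := by rw [h1]; group
    rw [e2]
    exact mul_mem (hy b hb) (inv_mem (hy a ha))
  have h2 : a * ⁅e, y⁆ * a⁻¹ = ⁅a, y⁆⁻¹ * ⁅b, y⁆ := by
    rw [h1, LocEven.commute_of_comm hT hconjT (hy a ha)]; group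
  have h3 : ⁅e, y⁆ ∈ A := by
    have h4 : a⁻¹ * (a * ⁅e, y⁆ * a⁻¹) * a ∈ A := mul_mem (mul_mem (inv_mem ha) (h2 ▸ hab)) ha
    simpa [mul_assoc] using h4
  rw [commSet, centralizer_closure, mem_centralizer_iff]
  rintro _ ⟨c, hc, rfl⟩
  have h5 := comm_mul_left e c y
  rw [LocEven.commute_of_comm hA heA hc, comm_mul_left c e y,
    LocEven.commute_of_comm hA hc h3, mul_inv_cancel_right,
    LocEven.commute_of_comm hT (hy e heA) (hy c hc)] at h5
  have h6 : e * ⁅c, y⁆ * e⁻¹ = ⁅c, y⁆ := (mul_right_cancel h5).symm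
  show ⁅c, y⁆ * e = e * ⁅c, y⁆
  exact (mul_inv_eq_iff_eq_mul.mp h6).symm

/-- The product of two commuting subgroups. -/
theorem card_sup_mul_card_inf_of_comm {M K : Subgroup H} [Finite H]
    (h : M ≤ centralizer (K : Set H)) :
    Nat.card ↥(M ⊔ K) * Nat.card ↥(M ⊓ K) = Nat.card M * Nat.card K :=
  PLoc.card_sup_mul_card_inf (h.trans (centralizer_le_normalizer _))

/-- Thompson's inequality: the commutators outgrow the index of their centralizer. -/
theorem card_mul_inf_le [Finite H] (hA : IsMulCommutative A) (hT : IsMulCommutative T)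
    (hy : ∀ a ∈ A, ⁅a, y⁆ ∈ T) :
    Nat.card A * Nat.card ↥(commSet A y ⊓ A) ≤
      Nat.card (commSet A y) * Nat.card ↥(A ⊓ centralizer (commSet A y : Set H)) := by
  set M := commSet A y with hM
  set K := A ⊓ centralizer (M : Set H) with hK
  have key : K.relIndex A ≤ A.relIndex M := by
    let f : A ⧸ K.subgroupOf A → M ⧸ A.subgroupOf M := fun q =>
      QuotientGroup.mk (⟨⁅(q.out : H), y⁆, comm_mem_commSet q.out.2⟩ : M)
    refine Nat.card_le_card_of_injective f fun q r hqr => ?_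
    have h := mem_subgroupOf.mp (QuotientGroup.eq.mp hqr)
    rw [← q.out_eq, ← r.out_eq]
    refine QuotientGroup.eq.mpr (mem_subgroupOf.mpr ?_)
    exact mem_inf.mpr ⟨mul_mem (inv_mem q.out.2) r.out.2,
      mem_centralizer_commSet hA hT hy q.out.2 r.out.2 (by simpa using h)⟩
  have h1 := LocEven.card_mul_relIndex' (inf_le_left : K ≤ A)
  have h2 := LocEven.card_mul_relIndex' (inf_le_left : M ⊓ A ≤ M)
  rw [inf_comm M A, inf_relIndex_right, inf_comm A M] at h2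
  rw [← h1, ← h2]
  calc Nat.card K * K.relIndex A * Nat.card ↥(M ⊓ A)
      ≤ Nat.card K * A.relIndex M * Nat.card ↥(M ⊓ A) := by gcongr
    _ = Nat.card ↥(M ⊓ A) * A.relIndex M * Nat.card K := by ring

/-- Thompson replacement along the commutators with `y`. -/
theorem le_card_sup [Finite H] (hA : IsMulCommutative A) (hT : IsMulCommutative T)
    (hy : ∀ a ∈ A, ⁅a, y⁆ ∈ T) :
    IsMulCommutative ↥(commSet A y ⊔ (A ⊓ centralizer (commSet A y : Set H))) ∧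
      Nat.card A ≤ Nat.card ↥(commSet A y ⊔ (A ⊓ centralizer (commSet A y : Set H))) := by
  set M := commSet A y with hM
  set K := A ⊓ centralizer (M : Set H) with hK
  have hMT : M ≤ T := commSet_le hy
  have hMc : M ≤ centralizer (M : Set H) :=
    (hMT.trans (LocEven.le_centralizer_self hT)).trans (centralizer_le hMT)
  have hKc : K ≤ centralizer (K : Set H) :=
    (inf_le_left.trans (LocEven.le_centralizer_self hA)).trans (centralizer_le inf_le_left)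
  have hMK : M ≤ centralizer (K : Set H) := le_centralizer_iff.mp inf_le_right
  refine ⟨LocEven.comm_sup (LocEven.comm_of_le_centralizer hMc)
    (LocEven.comm_of_le_centralizer hKc) hMK, ?_⟩
  have h1 := card_sup_mul_card_inf_of_comm hMK
  have h2 : M ⊓ K = M ⊓ A :=
    le_antisymm (inf_le_inf_left M inf_le_left)
      (le_inf inf_le_left (le_inf inf_le_right (inf_le_left.trans hMc)))
  rw [h2] at h1
  refine Nat.le_of_mul_le_mul_right ?_ (Nat.card_pos (α := ↥(M ⊓ A)))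
  rw [h1]
  exact card_mul_inf_le hA hT hy

section Glue

set_option linter.unusedSectionVars false

variable [Finite H] {Z : Subgroup H} (hA : IsMulCommutative A) (hZ : IsMulCommutative Z)
  (hmax : ∀ L : Subgroup H, L ≤ Z →
    Nat.card ↥(L ⊔ (A ⊓ centralizer (L : Set H))) ≤ Nat.card A)

include hA hZ hmax

/-- The order inequality for a subgroup `L` of `Z`. -/
theorem card_le_of_le {L : Subgroup H} (hL : L ≤ Z) (hLA : Z ⊓ A ≤ L) :
    Nat.card L * Nat.card ↥(A ⊓ centralizer (L : Set H)) ≤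
      Nat.card A * Nat.card ↥(Z ⊓ A) := by
  have hLc : L ≤ centralizer (L : Set H) :=
    (hL.trans (LocEven.le_centralizer_self hZ)).trans (centralizer_le hL)
  set K := A ⊓ centralizer (L : Set H) with hK
  have hLK : L ≤ centralizer (K : Set H) := le_centralizer_iff.mp inf_le_right
  have h2 : L ⊓ K = Z ⊓ A := by
    refine le_antisymm (le_inf (inf_le_left.trans hL) (inf_le_right.trans inf_le_left)) ?_
    exact le_inf hLA (le_inf inf_le_right (hLA.trans hLc))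
  rw [← card_sup_mul_card_inf_of_comm hLK, h2]
  exact Nat.mul_le_mul_right _ (hmax L hL)

variable (τ : H → H)

/-- `L` is extremal and an element of `A` realises `τ` on it. -/
def Realises (L : Subgroup H) : Prop :=
  L ≤ Z ∧ Z ⊓ A ≤ L ∧
    Nat.card A * Nat.card ↥(Z ⊓ A) ≤
      Nat.card L * Nat.card ↥(A ⊓ centralizer (L : Set H)) ∧
    ∃ a ∈ A, ∀ z ∈ L, ⁅a, z⁆ = τ z

omit hA hmax in
theorem comm_mul_of_mem {a z w : H} (haz : ⁅a, w⁆ ∈ Z) (hz : z ∈ Z) :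
    ⁅a, z * w⁆ = ⁅a, z⁆ * ⁅a, w⁆ := by
  rw [comm_mul_right, LocEven.commute_of_comm hZ hz haz, mul_inv_cancel_right]

/-- Two realisations glue. -/
theorem Realises.sup (hZn : ∀ a ∈ A, ∀ z ∈ Z, ⁅a, z⁆ ∈ Z)
    (hτ : ∀ z ∈ Z, ∀ w ∈ Z, τ (z * w) = τ z * τ w) {L₁ L₂ : Subgroup H}
    (h₁ : Realises (A := A) (Z := Z) τ L₁) (h₂ : Realises (A := A) (Z := Z) τ L₂) :
    Realises (A := A) (Z := Z) τ (L₁ ⊔ L₂) := by
  obtain ⟨hL₁, hA₁, hc₁, a₁, ha₁, hr₁⟩ := h₁
  obtain ⟨hL₂, hA₂, hc₂, a₂, ha₂, hr₂⟩ := h₂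
  set K₁ := A ⊓ centralizer (L₁ : Set H) with hK₁
  set K₂ := A ⊓ centralizer (L₂ : Set H) with hK₂
  set K := A ⊓ centralizer ((L₁ ⊓ L₂ : Subgroup H) : Set H) with hK
  set Ks := A ⊓ centralizer ((L₁ ⊔ L₂ : Subgroup H) : Set H) with hKs
  have hKKA : K₁ ⊔ K₂ ≤ A := sup_le inf_le_left inf_le_left
  have hK12 : K₁ ⊔ K₂ ≤ K := le_inf hKKA
    (sup_le (inf_le_right.trans (centralizer_le inf_le_left))
      (inf_le_right.trans (centralizer_le inf_le_right)))
  have hK₁c : K₁ ≤ centralizer (K₂ : Set H) :=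
    (inf_le_left.trans (LocEven.le_centralizer_self hA)).trans (centralizer_le inf_le_left)
  have hinf : K₁ ⊓ K₂ ≤ Ks := le_inf (inf_le_left.trans inf_le_left)
    (le_centralizer_iff.mp (sup_le (le_centralizer_iff.mp (inf_le_left.trans inf_le_right))
      (le_centralizer_iff.mp (inf_le_right.trans inf_le_right))))
  have hLc : L₁ ≤ centralizer (L₂ : Set H) :=
    (hL₁.trans (LocEven.le_centralizer_self hZ)).trans (centralizer_le hL₂)
  have e1 := card_sup_mul_card_inf_of_comm hK₁c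
  have e2 := card_sup_mul_card_inf_of_comm hLc
  have hsup := card_le_of_le hA hZ hmax (sup_le hL₁ hL₂) (hA₁.trans le_sup_left)
  have hint := card_le_of_le hA hZ hmax (inf_le_left.trans hL₁) (le_inf hA₁ hA₂)
  set N := Nat.card A * Nat.card ↥(Z ⊓ A) with hN
  have c1 : Nat.card ↥(K₁ ⊔ K₂) ≤ Nat.card K := Subgroup.card_le_of_le hK12
  have c2 : Nat.card ↥(K₁ ⊓ K₂) ≤ Nat.card Ks := Subgroup.card_le_of_le hinf
  have hprod : N * N ≤ (Nat.card ↥(L₁ ⊔ L₂) * Nat.card ↥(K₁ ⊓ K₂)) *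
      (Nat.card ↥(L₁ ⊓ L₂) * Nat.card ↥(K₁ ⊔ K₂)) := by
    calc N * N ≤ (Nat.card L₁ * Nat.card K₁) * (Nat.card L₂ * Nat.card K₂) :=
          Nat.mul_le_mul hc₁ hc₂
      _ = (Nat.card L₁ * Nat.card L₂) * (Nat.card K₁ * Nat.card K₂) := by ring
      _ = _ := by rw [← e1, ← e2]; ring
  have hpos : 0 < N := Nat.mul_pos Nat.card_pos Nat.card_pos
  have hx : Nat.card ↥(L₁ ⊔ L₂) * Nat.card ↥(K₁ ⊓ K₂) ≤ N :=
    (Nat.mul_le_mul_left _ c2).trans hsup
  have hy' : Nat.card ↥(L₁ ⊓ L₂) * Nat.card ↥(K₁ ⊔ K₂) ≤ N :=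
    (Nat.mul_le_mul_left _ c1).trans hint
  have hx' : N ≤ Nat.card ↥(L₁ ⊔ L₂) * Nat.card ↥(K₁ ⊓ K₂) :=
    Nat.le_of_mul_le_mul_right (hprod.trans (Nat.mul_le_mul_left _ hy')) hpos
  have hy'' : N ≤ Nat.card ↥(L₁ ⊓ L₂) * Nat.card ↥(K₁ ⊔ K₂) :=
    Nat.le_of_mul_le_mul_left (hprod.trans (Nat.mul_le_mul_right _ hx)) hpos
  have hKeq : K₁ ⊔ K₂ = K :=
    Subgroup.eq_of_le_of_card_ge hK12 (Nat.le_of_mul_le_mul_left (hint.trans hy'') Nat.card_pos)
  refine ⟨sup_le hL₁ hL₂, hA₁.trans le_sup_left, hx'.trans (Nat.mul_le_mul_left _ c2), ?_⟩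
  have hd : a₁⁻¹ * a₂ ∈ K := by
    refine mem_inf.mpr ⟨mul_mem (inv_mem ha₁) ha₂, mem_centralizer_iff.mpr fun z hz => ?_⟩
    have h : a₁ * z * a₁⁻¹ = a₂ * z * a₂⁻¹ := by
      rw [conj_eq_comm_mul, conj_eq_comm_mul, hr₁ z hz.1, hr₂ z hz.2]
    calc z * (a₁⁻¹ * a₂) = a₁⁻¹ * (a₁ * z * a₁⁻¹) * a₂ := by group
      _ = a₁⁻¹ * a₂ * z := by rw [h]; group
  rw [← hKeq] at hd
  obtain ⟨k₁, hk₁, k₂, hk₂, hkk⟩ :=
    (CfsgLib.Solvable.mem_sup_of_le_normalizer
      (le_centralizer_iff.mp hK₁c |>.trans (centralizer_le_normalizer _))).mp hd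
  have hav : a₁ * k₁ = a₂ * k₂⁻¹ := by
    calc a₁ * k₁ = a₁ * (k₁ * k₂) * k₂⁻¹ := by group
      _ = a₂ * k₂⁻¹ := by rw [hkk]; group
  have haA : a₁ * k₁ ∈ A := mul_mem ha₁ hk₁.1
  refine ⟨a₁ * k₁, haA, ?_⟩
  have hfix : ∀ (b k z : H), k * z = z * k → ⁅b * k, z⁆ = ⁅b, z⁆ := fun b k z hkz => by
    rw [comm_mul_left, comm_eq_one hkz, mul_one, mul_inv_cancel, one_mul]
  intro z hz
  obtain ⟨z₁, hz₁, z₂, hz₂, rfl⟩ := (CfsgLib.Solvable.mem_sup_of_le_normalizer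
    (le_centralizer_iff.mp hLc |>.trans (centralizer_le_normalizer _))).mp hz
  rw [comm_mul_of_mem hZ (hZn _ haA _ (hL₂ hz₂)) (hL₁ hz₁), hτ _ (hL₁ hz₁) _ (hL₂ hz₂)]
  refine congrArg₂ (· * ·) ?_ ?_
  · rw [hfix a₁ k₁ z₁ (hk₁.2 z₁ hz₁).symm, hr₁ z₁ hz₁]
  · rw [hav, hfix a₂ k₂⁻¹ z₂ (mem_centralizer_iff.mp (inv_mem (mem_inf.mp hk₂).2) z₂ hz₂).symm, hr₂ z₂ hz₂]

end Glue

end CfsgLib.JTransfer
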