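import Cfsg.Agent.Lib.JTransfer.Basic
import Cfsg.Agent.Lib.KInf.Critical
import Cfsg.Agent.Lib.ConjFunctor.TransferMain
import Cfsg.Agent.Lib.Signalizer.OmegaCentralizer

/-!
An Engel element of index six when an abelian subgroup of largest order lies outside `O_p`.
-/

set_option autoImplicit false
set_option linter.style.haveILetI false
set_option linter.unusedSectionVars false

open scoped commutatorElement

namespace CfsgLib.JTransfer

open Subgroup
open CfsgLib.KInf (cenIn)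
open CfsgLib.ConjFunctor

universe u

/-- The iterated commutators of `c` with `g`. -/
abbrev iter {G : Type*} [Group G] (g : G) (n : ℕ) (c : G) : G := (fun x : G => ⁅g, x⁆)^[n] c

section Local

variable {G : Type*} [Group G] [Finite G] {S Q C A : Subgroup G}

theorem comm_mem_of_normal {N : Subgroup G} (hN : N.Normal) (a : G) {x : G} (hx : x ∈ N) :
    ⁅a, x⁆ ∈ N := by
  rw [commutatorElement_def]
  exact mul_mem (hN.conj_mem x hx a) (inv_mem hx)

theorem iter_succ (g : G) (n : ℕ) (c : G) : iter g (n + 1) c = ⁅g, iter g n c⁆ :=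
  Function.iterate_succ_apply' _ _ _

theorem cenIn_comm (C : Subgroup G) : IsMulCommutative ↥(cenIn C) :=
  LocEven.comm_of_le_centralizer (inf_le_right.trans (centralizer_le inf_le_left))

theorem cenIn_commute {u c : G} (hu : u ∈ cenIn C) (hc : c ∈ C) : c * u = u * c :=
  mem_centralizer_iff.mp (mem_inf.mp hu).2 c hc

theorem normal_cenIn (hC : C.Normal) : (cenIn C).Normal := by
  haveI := hC
  rw [← normalizer_eq_top_iff, eq_top_iff]
  exact le_trans (le_of_eq (normalizer_eq_top C).symm) (KInf.normalizer_le_normalizer_cenIn C)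

variable (hCn : C.Normal) (hQC : ⁅Q, C⁆ ≤ cenIn C)

include hCn hQC

/-- Commutators with `g` and with an element of `Q` commuting with `g` can be interchanged. -/
theorem swap_critical {x a c : G} (hx : x ∈ Q) (hax : x * a = a * x) (hc : c ∈ C) :
    ⁅x, ⁅a, c⁆⁆ = ⁅a, ⁅x, c⁆⁆ :=
  comm_swap hax (cenIn_commute (hQC (commutator_mem_commutator hx hc))
    (comm_mem_of_normal hCn a hc)).symm

theorem comm_mul_critical {x c d : G} (hx : x ∈ Q) (hc : c ∈ C) (hd : d ∈ C) :
    ⁅x, c * d⁆ = ⁅x, c⁆ * ⁅x, d⁆ := by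
  rw [comm_mul_right, cenIn_commute (hQC (commutator_mem_commutator hx hd)) hc,
    mul_inv_cancel_right]

variable {p : ℕ} [Fact p.Prime] (hSp : IsPGroup p S) (hQn : Q.Normal) (hQS : Q ≤ S) (hCQ : C ≤ Q)
  (hAS : A ≤ S) (hA : IsMulCommutative A)
  (hmaxA : ∀ B : Subgroup G, B ≤ S → IsMulCommutative B → Nat.card B ≤ Nat.card A)

include hSp hQn hQS hCQ hAS hA hmaxA

/-- The quadratic case: five commutators with an element of `A` kill the critical subgroup. -/
theorem iter_five_eq_one (hmaxQ : ∀ B : Subgroup G, B ≤ S → IsMulCommutative B →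
      Nat.card A ≤ Nat.card B → ¬ B ≤ Q → Nat.card ↥(B ⊓ Q) ≤ Nat.card ↥(A ⊓ Q))
    (hquad : ∀ a ∈ A, ∀ u ∈ cenIn C, ⁅a, u⁆ ∈ A) {g c : G} (hg : g ∈ A) (hc : c ∈ C) :
    iter g 5 c = 1 := by
  obtain ⟨T, hT⟩ := (Set.toFinite {T : Subgroup G | T ≤ Q ∧ A ⊓ Q ≤ T ∧ IsMulCommutative T ∧
    ∀ a ∈ A, ∀ t ∈ T, ⁅a, t⁆ ∈ A}).exists_maximal ⟨A ⊓ Q, inf_le_right, le_rfl,
      LocEven.comm_of_le_centralizer ((inf_le_left.trans (LocEven.le_centralizer_self hA)).trans
        (centralizer_le inf_le_left)),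
      fun a ha t ht => by rw [comm_eq_one (LocEven.commute_of_comm hA ha ht.1)]; exact one_mem _⟩
  obtain ⟨hTQ, hAT, hTc, hTA⟩ := hT.prop
  have hAQT : ∀ a ∈ A, ∀ t ∈ Q, ⁅a, t⁆ ∈ A → ⁅a, t⁆ ∈ T := fun a _ t ht h =>
    hAT (mem_inf.mpr ⟨h, comm_mem_of_normal hQn a ht⟩)
  have hconj : ∀ a ∈ A, ∀ t ∈ T, a * t * a⁻¹ ∈ T := fun a ha t ht => by
    rw [conj_eq_comm_mul]
    exact mul_mem (hAQT a ha t (hTQ ht) (hTA a ha t ht)) ht
  have hANT : A ≤ normalizer (T : Set G) := le_normalizer_iff.mpr hconj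
  -- `T` is its own centralizer in `Q`
  have hself : ∀ y ∈ Q, y ∈ centralizer (T : Set G) → y ∈ T := by
    by_contra hcon
    push Not at hcon
    obtain ⟨y₀, hy₀Q, hy₀T, hy₀⟩ := hcon
    set W := Q ⊓ centralizer (T : Set G) with hW
    have hAW : A ≤ normalizer (W : Set G) := by
      refine le_normalizer_iff.mpr fun a ha w hw => ?_
      refine mem_inf.mpr ⟨hQn.conj_mem w (mem_inf.mp hw).1 a, mem_centralizer_iff.mpr fun t ht => ?_⟩
      have h1 : a⁻¹ * t * (a⁻¹)⁻¹ ∈ T := hconj _ (inv_mem ha) t ht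
      have h2 := mem_centralizer_iff.mp (mem_inf.mp hw).2 _ h1
      calc t * (a * w * a⁻¹) = a * (a⁻¹ * t * (a⁻¹)⁻¹ * w) * a⁻¹ := by group
        _ = a * w * a⁻¹ * t := by rw [h2]; group
    obtain ⟨y, hy, hyT, hfix⟩ := Signalizer.exists_fixed_coset (hSp.to_le hAS)
      (hSp.to_le (inf_le_left.trans hQS)) hAW (inf_le_right.trans (centralizer_le_normalizer _))
      hANT fun h => hy₀ (h (mem_inf.mpr ⟨hy₀Q, hy₀T⟩))
    obtain ⟨hyQ, hyC⟩ := mem_inf.mp hy
    have hyA : ∀ a ∈ A, ⁅a, y⁆ ∈ T := fun a ha => by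
      have h1 := hfix a ha
      have h2 := mem_centralizer_iff.mp hyC _ h1
      have e : ⁅a, y⁆ = y * (y⁻¹ * (a * y * a⁻¹)) * y⁻¹ := by
        simp only [commutatorElement_def]; group
      rw [e, ← h2]
      simpa using h1
    have hbig : IsMulCommutative ↥(T ⊔ zpowers y) := LocEven.comm_sup hTc inferInstance
      (le_centralizer_iff.mp (zpowers_le.mpr hyC))
    have hlt : T < T ⊔ zpowers y :=
      lt_of_le_of_ne le_sup_left fun h => hyT (h ▸ le_sup_right (a := T) (mem_zpowers y))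
    by_cases hgood : ∀ a ∈ A, ⁅a, y⁆ ∈ A
    · let D : Subgroup G :=
        { carrier := {v | v ∈ W ∧ ∀ a ∈ A, ⁅a, v⁆ ∈ A}
          one_mem' := ⟨one_mem W, fun a _ => by rw [commutatorElement_one_right]; exact one_mem A⟩
          mul_mem' := fun {v w} hv hw => ⟨mul_mem hv.1 hw.1, fun a ha => by
            rw [comm_mul_right, ← mem_centralizer_iff.mp (mem_inf.mp hv.1).2 _
              (hAQT a ha w (mem_inf.mp hw.1).1 (hw.2 a ha)), mul_inv_cancel_right]
            exact mul_mem (hv.2 a ha) (hw.2 a ha)⟩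
          inv_mem' := fun {v} hv => ⟨inv_mem hv.1, fun a ha => by
            have h1 := mem_centralizer_iff.mp (mem_inf.mp hv.1).2 _
              (inv_mem (hAQT a ha v (mem_inf.mp hv.1).1 (hv.2 a ha)))
            have e : ⁅a, v⁻¹⁆ = v⁻¹ * ⁅a, v⁆⁻¹ * v := by
              simp only [commutatorElement_def]; group
            rw [e, mul_assoc, h1, inv_mul_cancel_left]
            exact inv_mem (hv.2 a ha)⟩ }
      have hD : T ⊔ zpowers y ≤ D := sup_le (fun t ht => ⟨mem_inf.mpr ⟨hTQ ht,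
        LocEven.le_centralizer_self hTc ht⟩, fun a ha => hTA a ha t ht⟩)
        (zpowers_le.mpr ⟨hy, hgood⟩)
      exact hlt.not_ge (hT.2 ⟨sup_le hTQ (zpowers_le.mpr hyQ), hAT.trans le_sup_left, hbig,
        fun a ha t ht => (hD ht).2 a ha⟩ le_sup_left)
    · obtain ⟨hBc, hBcard⟩ := le_card_sup hA hTc hyA
      set M := commSet A y with hM
      set K := A ⊓ centralizer (M : Set G) with hK
      have hMT : M ≤ T := commSet_le hyA
      have hQK : A ⊓ Q ≤ K := le_inf inf_le_left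
        (hAT.trans ((LocEven.le_centralizer_self hTc).trans (centralizer_le hMT)))
      by_cases hKQ : K ≤ Q
      · have hKT : K ≤ T := (le_inf inf_le_left hKQ).trans hAT
        have h1 : Nat.card A ≤ Nat.card T :=
          hBcard.trans (Subgroup.card_le_of_le (sup_le hMT hKT))
        have h2 := hmaxA _ (sup_le (hTQ.trans hQS) (zpowers_le.mpr (hQS hyQ))) hbig
        exact hlt.ne (Subgroup.eq_of_le_of_card_ge le_sup_left (h2.trans h1))
      · have h1 := hmaxQ _ (sup_le (hMT.trans (hTQ.trans hQS)) (inf_le_left.trans hAS)) hBc hBcard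
          fun h => hKQ (le_sup_right.trans h)
        have hle : M ⊔ A ⊓ Q ≤ (M ⊔ K) ⊓ Q :=
          le_inf (sup_le_sup_left hQK M) (sup_le (hMT.trans hTQ) inf_le_right)
        have h2 : A ⊓ Q = M ⊔ A ⊓ Q := Subgroup.eq_of_le_of_card_ge le_sup_right
          ((Subgroup.card_le_of_le hle).trans h1)
        refine hgood fun a ha => ?_
        exact (mem_inf.mp (h2.ge (mem_sup_left (comm_mem_commSet ha)))).1
  -- the computation
  set Z := cenIn C with hZdef
  have hit : ∀ n, iter g n c ∈ C := fun n => by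
    haveI := hCn
    exact commStep_mem hc n
  have hZv : ∀ {x : G}, x ∈ Q → ∀ n, ⁅x, iter g n c⁆ ∈ Z := fun hx n =>
    hQC (commutator_mem_commutator hx (hit n))
  have h1 : ∀ d ∈ A, d ∈ Q → ∀ n, ⁅d, iter g (n + 1) c⁆ = ⁅g, ⁅d, iter g n c⁆⁆ := fun d hd hdQ n => by
    rw [iter_succ]
    exact swap_critical hCn hQC hdQ (LocEven.commute_of_comm hA hd hg) (hit n)
  have hd1 : ∀ d ∈ A, d ∈ Q → ⁅d, iter g 1 c⁆ ∈ A := fun d hd hdQ => by
    rw [h1 d hd hdQ 0]
    exact hquad g hg _ (hZv hdQ 0)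
  have hd2 : ∀ d ∈ A, d ∈ Q → ⁅d, iter g 2 c⁆ = 1 := fun d hd hdQ => by
    rw [h1 d hd hdQ 1]
    exact comm_eq_one (LocEven.commute_of_comm hA hg (hd1 d hd hdQ))
  have hkey : ∀ t ∈ T, ∀ n, g * ⁅t, iter g n c⁆ * g⁻¹ =
      ⁅g, t⁆ * (⁅t, iter g (n + 1) c⁆ * ⁅t, iter g n c⁆) * ⁅g, t⁆⁻¹ *
        (⁅⁅g, t⁆, iter g (n + 1) c⁆ * ⁅⁅g, t⁆, iter g n c⁆) := by
    intro t ht n
    have e1 : g * ⁅t, iter g n c⁆ * g⁻¹ = ⁅g * t * g⁻¹, g * iter g n c * g⁻¹⁆ := by
      simp only [commutatorElement_def]; group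
    rw [e1, conj_eq_comm_mul g t, conj_eq_comm_mul g (iter g n c), ← iter_succ, comm_mul_left,
      comm_mul_critical hCn hQC (hTQ ht) (hit _) (hit _),
      comm_mul_critical hCn hQC (comm_mem_of_normal hQn g (hTQ ht)) (hit _) (hit _)]
  have hA2 : ∀ t ∈ T, ⁅t, iter g 2 c⁆ ∈ A := by
    intro t ht
    set e := ⁅g, t⁆ with he
    have heA : e ∈ A := hTA g hg t ht
    have heQ : e ∈ Q := comm_mem_of_normal hQn g (hTQ ht)
    have h := hkey t ht 1
    rw [← he] at h
    set W := ⁅t, iter g 1 c⁆ with hWdef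
    set E := ⁅e, iter g 1 c⁆ with hE
    have hWZ : W ∈ Z := hZv (hTQ ht) 1
    have hEZ : E ∈ Z := hZv heQ 1
    set X := e * ⁅t, iter g 2 c⁆ * e⁻¹ with hX
    have h2 : g * W * g⁻¹ = X * (e * W * e⁻¹) * E := by
      rw [h, hd2 e heA heQ, hX]; group
    rw [conj_eq_comm_mul g W, conj_eq_comm_mul e W] at h2
    have h3 : X = ⁅g, W⁆ * (W * E⁻¹) * W⁻¹ * ⁅e, W⁆⁻¹ := by
      rw [← mul_assoc, h2]; group
    rw [LocEven.commute_of_comm (cenIn_comm C) hWZ (inv_mem hEZ)] at h3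
    have hXA : X ∈ A := by
      have e5 : X = ⁅g, W⁆ * E⁻¹ * ⁅e, W⁆⁻¹ := by rw [h3]; group
      rw [e5]
      exact mul_mem (mul_mem (hquad g hg W hWZ) (inv_mem (hd1 e heA heQ)))
        (inv_mem (hquad e heA W hWZ))
    have h4 := mul_mem (mul_mem (inv_mem heA) hXA) heA
    simpa [hX, mul_assoc] using h4
  have hA3 : ∀ t ∈ T, ⁅t, iter g 3 c⁆ = 1 := by
    intro t ht
    set e := ⁅g, t⁆ with he
    have heA : e ∈ A := hTA g hg t ht
    have heQ : e ∈ Q := comm_mem_of_normal hQn g (hTQ ht)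
    have h := hkey t ht 2
    set R := ⁅t, iter g 2 c⁆ with hR
    have hRA : R ∈ A := hA2 t ht
    rw [← he, hd2 e heA heQ, h1 e heA heQ 2, hd2 e heA heQ, commutatorElement_one_right, mul_one,
      mul_one, LocEven.commute_of_comm hA hg hRA, mul_inv_cancel_right] at h
    have h5 : e * R = R * e := LocEven.commute_of_comm hA heA hRA
    have h6 : e * ⁅t, iter g (2 + 1) c⁆ * e⁻¹ * R = R := by
      conv_rhs => rw [h]
      calc e * ⁅t, iter g (2 + 1) c⁆ * e⁻¹ * R
          = e * ⁅t, iter g (2 + 1) c⁆ * e⁻¹ * (R * e) * e⁻¹ := by group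
        _ = e * ⁅t, iter g (2 + 1) c⁆ * e⁻¹ * (e * R) * e⁻¹ := by rw [h5]
        _ = _ := by group
    have h7 := mul_right_cancel (h6.trans (one_mul R).symm)
    exact conj_eq_one_iff.mp h7
  have h3T : iter g 3 c ∈ T := hself _ (hCQ (hit 3)) (mem_centralizer_iff.mpr fun t ht =>
    commutatorElement_eq_one_iff_mul_comm.mp (hA3 t ht))
  have h4A : iter g 4 c ∈ A := by
    rw [iter_succ]
    exact hTA g hg _ h3T
  rw [iter_succ]
  exact comm_eq_one (LocEven.commute_of_comm hA hg h4A)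

/-- The non-quadratic case. -/
theorem iter_four_mem (hR : ∀ u ∈ cenIn C, ¬ commSet A u ≤ A →
      A ⊓ centralizer (commSet A u : Set G) ≤ Q)
    (hex : ∃ a ∈ A, ∃ u ∈ cenIn C, ⁅a, u⁆ ∉ A) {g : G} (hg : g ∈ A) :
    (∀ u ∈ cenIn C, ∃ x ∈ Q, iter g 3 u = ⁅x, iter g 1 u⁆) ∧
      ∀ c ∈ C, iter g 4 c ∈ cenIn C := by
  set Z := cenIn C with hZdef
  have hZn : Z.Normal := normal_cenIn hCn
  have hZc : IsMulCommutative Z := cenIn_comm C
  have hZS : Z ≤ S := (inf_le_left.trans hCQ).trans hQS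
  have hZn' : ∀ a ∈ A, ∀ z ∈ Z, ⁅a, z⁆ ∈ Z := fun a _ z hz => comm_mem_of_normal hZn a hz
  have hmax : ∀ L : Subgroup G, L ≤ Z →
      Nat.card ↥(L ⊔ (A ⊓ centralizer (L : Set G))) ≤ Nat.card A := fun L hL =>
    hmaxA _ (sup_le (hL.trans hZS) (inf_le_left.trans hAS)) (LocEven.comm_sup
      (LocEven.comm_of_le_centralizer ((hL.trans (LocEven.le_centralizer_self hZc)).trans
        (centralizer_le hL)))
      (LocEven.comm_of_le_centralizer ((inf_le_left.trans (LocEven.le_centralizer_self hA)).trans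
        (centralizer_le inf_le_left)))
      (le_centralizer_iff.mp inf_le_right))
  have hhom : ∀ a : G, ∀ z ∈ Z, ∀ w ∈ Z, ⁅a, z * w⁆ = ⁅a, z⁆ * ⁅a, w⁆ := fun a z hz w hw =>
    comm_mul_of_mem hZc (comm_mem_of_normal hZn a hw) hz
  set τ : G → G := fun z => ⁅g, ⁅g, z⁆⁆ with hτdef
  have hτ : ∀ z ∈ Z, ∀ w ∈ Z, τ (z * w) = τ z * τ w := fun z hz w hw => by
    simp only [hτdef]
    rw [hhom g z hz w hw, hhom g _ (hZn' g hg z hz) _ (hZn' g hg w hw)]
  have hswapZ : ∀ a ∈ A, ∀ b ∈ A, ∀ u ∈ Z, ⁅a, ⁅b, u⁆⁆ = ⁅b, ⁅a, u⁆⁆ := fun a ha b hb u hu =>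
    comm_swap (LocEven.commute_of_comm hA ha hb)
      (LocEven.commute_of_comm hZc (hZn' a ha u hu) (hZn' b hb u hu))
  have hτA : ∀ z ∈ A, τ z = 1 := fun z hz => by
    simp only [hτdef]
    rw [comm_eq_one (LocEven.commute_of_comm hA hg hz), commutatorElement_one_right]
  have hbase : Realises (A := A) (Z := Z) τ (Z ⊓ A) := by
    refine ⟨inf_le_left, le_rfl, ?_, 1, one_mem A, fun z hz => ?_⟩
    · rw [mul_comm]
      refine Nat.mul_le_mul_left _ (Subgroup.card_le_of_le (le_inf le_rfl ?_))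
      exact (LocEven.le_centralizer_self hA).trans (centralizer_le inf_le_right)
    · rw [commutatorElement_one_left, hτA z (mem_inf.mp hz).2]
  -- one element of `Z`
  have hone : ∀ u ∈ Z, Realises (A := A) (Z := Z) τ (Z ⊓ A ⊔ commSet A u) := by
    intro u hu
    set M := commSet A u with hM
    set K := A ⊓ centralizer (M : Set G) with hK
    have hy : ∀ a ∈ A, ⁅a, u⁆ ∈ Z := fun a ha => hZn' a ha u hu
    have hMZ : M ≤ Z := commSet_le hy
    have hineq := card_mul_inf_le hA hZc hy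
    have hcomm : (Z ⊓ A) ≤ centralizer (M : Set G) :=
      (inf_le_left.trans (LocEven.le_centralizer_self hZc)).trans (centralizer_le hMZ)
    have e1 := card_sup_mul_card_inf_of_comm hcomm
    have e2 : Z ⊓ A ⊓ M = M ⊓ A :=
      le_antisymm (le_inf inf_le_right (inf_le_left.trans inf_le_right))
        (le_inf (le_inf (inf_le_left.trans hMZ) inf_le_right) inf_le_left)
    rw [e2] at e1
    have hKL : K ≤ A ⊓ centralizer ((Z ⊓ A ⊔ M : Subgroup G) : Set G) := by
      refine le_inf inf_le_left (le_centralizer_iff.mp (sup_le ?_ (le_centralizer_iff.mp inf_le_right)))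
      exact (inf_le_right.trans (LocEven.le_centralizer_self hA)).trans (centralizer_le inf_le_left)
    refine ⟨sup_le inf_le_left hMZ, le_sup_left, ?_, ?_⟩
    · refine le_trans ?_ (Nat.mul_le_mul_left _ (Subgroup.card_le_of_le hKL))
      refine Nat.le_of_mul_le_mul_right ?_ (Nat.card_pos (α := ↥(M ⊓ A)))
      calc Nat.card A * Nat.card ↥(Z ⊓ A) * Nat.card ↥(M ⊓ A)
          = Nat.card ↥(Z ⊓ A) * (Nat.card A * Nat.card ↥(M ⊓ A)) := by ring
        _ ≤ Nat.card ↥(Z ⊓ A) * (Nat.card M * Nat.card K) := Nat.mul_le_mul_left _ hineq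
        _ = (Nat.card ↥(Z ⊓ A ⊔ M) * Nat.card ↥(M ⊓ A)) * Nat.card K := by rw [e1]; ring
        _ = Nat.card ↥(Z ⊓ A ⊔ M) * Nat.card K * Nat.card ↥(M ⊓ A) := by ring
    -- every element of `M` is a commutator with `u` modulo `A`
    set q := τ u with hq
    have hqM : q ∈ M := comm_mem_commSet_right hg (comm_mem_commSet hg)
    obtain ⟨a, ha, hz0⟩ : ∃ a ∈ A, ⁅a, u⁆⁻¹ * q ∈ A := by
      let f : A ⧸ K.subgroupOf A → M ⧸ A.subgroupOf M := fun s =>
        QuotientGroup.mk (⟨⁅(s.out : G), u⁆, comm_mem_commSet s.out.2⟩ : M)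
      have hf : Function.Injective f := fun s r hsr => by
        have h := mem_subgroupOf.mp (QuotientGroup.eq.mp hsr)
        rw [← s.out_eq, ← r.out_eq]
        refine QuotientGroup.eq.mpr (mem_subgroupOf.mpr ?_)
        exact mem_inf.mpr ⟨mul_mem (inv_mem s.out.2) r.out.2,
          mem_centralizer_commSet hA hZc hy s.out.2 r.out.2 (by simpa using h)⟩
      have hle : A.relIndex M ≤ K.relIndex A := by
        have h1 := LocEven.card_mul_relIndex' (inf_le_left : K ≤ A)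
        have h2 := LocEven.card_mul_relIndex' (inf_le_left : M ⊓ A ≤ M)
        rw [inf_comm M A, inf_relIndex_right, inf_comm A M] at h2
        have hMK : M ≤ centralizer (K : Set G) := le_centralizer_iff.mp inf_le_right
        have e3 := card_sup_mul_card_inf_of_comm hMK
        have hMc : M ≤ centralizer (M : Set G) :=
          (hMZ.trans (LocEven.le_centralizer_self hZc)).trans (centralizer_le hMZ)
        have e4 : M ⊓ K = M ⊓ A := le_antisymm (inf_le_inf_left M inf_le_left)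
          (le_inf inf_le_left (le_inf inf_le_right (inf_le_left.trans hMc)))
        rw [e4] at e3
        refine Nat.le_of_mul_le_mul_left ?_ (Nat.mul_pos (Nat.card_pos (α := ↥(M ⊓ A)))
          (Nat.card_pos (α := K)))
        calc Nat.card ↥(M ⊓ A) * Nat.card K * A.relIndex M
            = Nat.card M * Nat.card K := by rw [← h2]; ring
          _ ≤ Nat.card A * Nat.card ↥(M ⊓ A) := by
              rw [← e3]; exact Nat.mul_le_mul_right _ (hmax M hMZ)
          _ = _ := by rw [← h1]; ring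
      obtain ⟨s, hs⟩ := (Nat.bijective_iff_injective_and_card f).mpr
        ⟨hf, le_antisymm (Nat.card_le_card_of_injective f hf) hle⟩ |>.2
          (QuotientGroup.mk (⟨q, hqM⟩ : M))
      exact ⟨s.out, s.out.2, by simpa using mem_subgroupOf.mp (QuotientGroup.eq.mp hs)⟩
    refine ⟨a, ha, ?_⟩
    let D : Subgroup G :=
      { carrier := {z | z ∈ Z ∧ ⁅a, z⁆ = τ z}
        one_mem' := ⟨one_mem Z, by rw [hτA 1 (one_mem A), commutatorElement_one_right]⟩
        mul_mem' := fun {v w} hv hw => ⟨mul_mem hv.1 hw.1, by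
          rw [hhom a v hv.1 w hw.1, hτ v hv.1 w hw.1, hv.2, hw.2]⟩
        inv_mem' := fun {v} hv => ⟨inv_mem hv.1, by
          have h1 := hhom a v hv.1 v⁻¹ (inv_mem hv.1)
          have h2 := hτ v hv.1 v⁻¹ (inv_mem hv.1)
          rw [mul_inv_cancel, commutatorElement_one_right, hv.2] at h1
          rw [mul_inv_cancel, hτA 1 (one_mem A)] at h2
          exact mul_left_cancel (h1.symm.trans h2)⟩ }
    intro z hz
    refine ((sup_le (fun z hz => ⟨(mem_inf.mp hz).1, ?_⟩) ((closure_le D).mpr ?_) :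
      Z ⊓ A ⊔ M ≤ D) hz).2
    · rw [hτA z (mem_inf.mp hz).2, comm_eq_one (LocEven.commute_of_comm hA ha (mem_inf.mp hz).2)]
    rintro _ ⟨b, hb, rfl⟩
    refine ⟨hy b hb, ?_⟩
    set z0 := ⁅a, u⁆⁻¹ * q with hz0def
    have hz0Z : z0 ∈ Z := mul_mem (inv_mem (hy a ha)) (hMZ hqM)
    have e : ⁅a, u⁆ = q * z0⁻¹ := by rw [hz0def]; group
    show ⁅a, ⁅b, u⁆⁆ = ⁅g, ⁅g, ⁅b, u⁆⁆⁆
    rw [hswapZ a ha b hb u hu, e, hhom b q (hMZ hqM) _ (inv_mem hz0Z),
      comm_eq_one (LocEven.commute_of_comm hA hb (inv_mem hz0)), mul_one, hq]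
    simp only [hτdef]
    rw [hswapZ b hb g hg _ (hy g hg), hswapZ b hb g hg u hu]
  -- all of `Z`
  obtain ⟨L, hL, hML⟩ : ∃ L, Realises (A := A) (Z := Z) τ L ∧ ∀ u ∈ (Z : Set G), commSet A u ≤ L := by
    refine Set.Finite.induction_on_subset (Z : Set G) (Set.toFinite _)
      (motive := fun s _ => ∃ L, Realises (A := A) (Z := Z) τ L ∧ ∀ u ∈ s, commSet A u ≤ L)
      ⟨_, hbase, fun u hu => absurd hu (Set.notMem_empty u)⟩ ?_
    rintro u s hu - - ⟨L, hL, hs⟩
    refine ⟨_, Realises.sup hA hZc hmax τ hZn' hτ hL (hone u hu), fun v hv => ?_⟩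
    rcases Set.mem_insert_iff.mp hv with rfl | hv
    · exact le_sup_right.trans le_sup_right
    · exact (hs v hv).trans le_sup_left
  obtain ⟨hLZ, hAL, hLcard, x₀, hx₀, hx₀L⟩ := hL
  -- a minimal nonquadratic element puts `x₀` in `Q`
  obtain ⟨a₁, ha₁, u₁, hu₁, hau⟩ := hex
  obtain ⟨w, ⟨hwZ, hwA⟩, hwmin⟩ := Set.exists_min_image {w : G | w ∈ Z ∧ ¬ commSet A w ≤ A}
    (fun w => Nat.card (commSet A w)) (Set.toFinite _)
    ⟨u₁, hu₁, fun h => hau (h (comm_mem_commSet ha₁))⟩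
  set M := commSet A w with hM
  have hMZ : M ≤ Z := commSet_le fun a ha => hZn' a ha w hwZ
  have hsmall : ∀ b ∈ A, commSet A ⁅b, w⁆ ≤ A := by
    intro b hb
    by_contra hcon
    let θ : M →* M := MonoidHom.mk'
      (fun z => ⟨⁅b, (z : G)⁆, comm_mem_commSet_right hb z.2⟩)
      fun z z' => Subtype.ext (hhom b z (hMZ z.2) z' (hMZ z'.2))
    have hle : commSet A ⁅b, w⁆ ≤ θ.range.map M.subtype := commSet_le fun a ha => by
      rw [hswapZ a ha b hb w hwZ]
      exact ⟨θ ⟨_, comm_mem_commSet ha⟩, ⟨_, rfl⟩, rfl⟩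
    have hMne : ¬ M ≤ ⊥ := fun h => hwA (h.trans bot_le)
    have hbM : zpowers b ≤ normalizer (M : Set G) := le_trans (zpowers_le.mpr hb)
      (le_normalizer_iff.mpr fun a ha x hx => conj_mem_commSet ha hx)
    obtain ⟨z, hzM, hz1, hzfix⟩ := Signalizer.exists_fixed_coset (hSp.to_le (zpowers_le.mpr (hAS hb)))
      (hSp.to_le (hMZ.trans hZS)) hbM
      (by rw [normalizer_eq_top]; exact le_top) (by rw [normalizer_eq_top]; exact le_top) hMne
    have hθz : θ ⟨z, hzM⟩ = θ 1 := by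
      refine Subtype.ext ?_
      show ⁅b, z⁆ = ⁅b, (1 : G)⁆
      rw [commutatorElement_one_right]
      refine comm_eq_one ?_
      have h := mem_bot.mp (hzfix b (mem_zpowers b))
      rw [inv_mul_eq_one] at h
      exact (eq_mul_inv_iff_mul_eq.mp h).symm
    have hnsurj : ¬ Function.Surjective θ := fun h => hz1 (mem_bot.mpr
      (congrArg Subtype.val (Finite.injective_iff_surjective.mpr h hθz)))
    have hlt : Nat.card θ.range < Nat.card M := lt_of_le_of_ne θ.range.card_le_card_group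
      fun h => hnsurj (MonoidHom.range_eq_top.mp (eq_top_of_card_eq _ h))
    have h1 := hwmin ⁅b, w⁆ ⟨hZn' b hb w hwZ, hcon⟩
    have h2 := Subgroup.card_le_of_le hle
    rw [Subgroup.card_map_of_injective M.subtype_injective] at h2
    omega
  have hx₀Q : x₀ ∈ Q := by
    refine hR w hwZ hwA (mem_inf.mpr ⟨hx₀, ?_⟩)
    rw [commSet, centralizer_closure, mem_centralizer_iff]
    rintro _ ⟨b, hb, rfl⟩
    have h1 := hx₀L _ (hML w hwZ (comm_mem_commSet hb))
    simp only [hτdef] at h1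
    rw [comm_eq_one (LocEven.commute_of_comm hA hg (hsmall b hb (comm_mem_commSet hg)))] at h1
    exact (commutatorElement_eq_one_iff_mul_comm.mp h1).symm
  constructor
  · intro u hu
    refine ⟨x₀, hx₀Q, ?_⟩
    have h1 : iter g 1 u = ⁅g, u⁆ := iter_succ g 0 u
    rw [iter_succ g 2, iter_succ g 1, h1, hx₀L _ (hML u hu (comm_mem_commSet hg))]
  intro c hc
  set X := A ⊓ centralizer (L : Set G) with hX
  have hXQ : X ≤ Q := fun x hx => hR w hwZ hwA (mem_inf.mpr ⟨(mem_inf.mp hx).1,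
    centralizer_le (hML w hwZ) (mem_inf.mp hx).2⟩)
  have hit : ∀ n, iter g n c ∈ C := fun n => by
    haveI := hCn
    exact commStep_mem hc n
  have h1 : ∀ x ∈ X, ∀ n, ⁅x, iter g (n + 1) c⁆ = ⁅g, ⁅x, iter g n c⁆⁆ := fun x hx n => by
    rw [iter_succ]
    exact swap_critical hCn hQC (hXQ hx) (LocEven.commute_of_comm hA (mem_inf.mp hx).1 hg) (hit n)
  have hZv : ∀ {x : G}, x ∈ Q → ∀ n, ⁅x, iter g n c⁆ ∈ Z := fun hx n =>
    hQC (commutator_mem_commutator hx (hit n))
  set z := ⁅x₀, iter g 1 c⁆ with hz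
  have hzZ : z ∈ Z := hZv hx₀Q 1
  set y := z⁻¹ * iter g 3 c with hy
  have hyC : y ∈ C := mul_mem (inv_mem (mem_inf.mp hzZ).1) (hit 3)
  have hyX : ∀ x ∈ X, x * y = y * x := by
    intro x hx
    obtain ⟨hxA, -⟩ := mem_inf.mp hx
    have h0 : ⁅x, iter g 1 c⁆ ∈ L := by
      rw [h1 x hx 0]
      exact hML _ (hZv (hXQ hx) 0) (comm_mem_commSet hg)
    have h3 : ⁅x, iter g 3 c⁆ = ⁅x, z⁆ := by
      rw [h1 x hx 2, h1 x hx 1]
      show τ ⁅x, iter g 1 c⁆ = _
      rw [← hx₀L _ h0]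
      exact comm_swap (LocEven.commute_of_comm hA hx₀ hxA)
          (LocEven.commute_of_comm hZc (hZv hx₀Q 1) (hZv (hXQ hx) 1))
    refine commutatorElement_eq_one_iff_mul_comm.mp ?_
    rw [hy, comm_mul_critical hCn hQC (hXQ hx) (inv_mem (mem_inf.mp hzZ).1) (hit 3), h3,
      ← hhom x _ (inv_mem hzZ) _ hzZ, inv_mul_cancel, commutatorElement_one_right]
  have hyL : y ∈ centralizer (L : Set G) :=
    mem_centralizer_iff.mpr fun l hl => (cenIn_commute (hLZ hl) hyC).symm
  set B := L ⊔ X with hB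
  have hLc : L ≤ centralizer (L : Set G) :=
    (hLZ.trans (LocEven.le_centralizer_self hZc)).trans (centralizer_le hLZ)
  have hXc : X ≤ centralizer (X : Set G) :=
    (inf_le_left.trans (LocEven.le_centralizer_self hA)).trans (centralizer_le inf_le_left)
  have hLX : L ≤ centralizer (X : Set G) := le_centralizer_iff.mp inf_le_right
  have hBc : IsMulCommutative B := LocEven.comm_sup (LocEven.comm_of_le_centralizer hLc)
    (LocEven.comm_of_le_centralizer hXc) hLX
  have hBcard : Nat.card A ≤ Nat.card B := by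
    have e := card_sup_mul_card_inf_of_comm hLX
    have e' : L ⊓ X = Z ⊓ A :=
      le_antisymm (le_inf (inf_le_left.trans hLZ) (inf_le_right.trans inf_le_left))
        (le_inf hAL (le_inf inf_le_right (hAL.trans hLc)))
    rw [e', ← hB] at e
    exact Nat.le_of_mul_le_mul_right (e ▸ hLcard) Nat.card_pos
  have hBS : B ≤ S := sup_le (hLZ.trans hZS) (inf_le_left.trans hAS)
  have hyB : y ∈ B := by
    have hBy : IsMulCommutative ↥(B ⊔ zpowers y) := LocEven.comm_sup hBc inferInstance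
      (le_centralizer_iff.mp (zpowers_le.mpr (mem_centralizer_iff.mpr fun b hb => by
        obtain ⟨l, hl, x, hx, rfl⟩ := (CfsgLib.Solvable.mem_sup_of_le_normalizer
          ((le_centralizer_iff.mp hLX).trans (centralizer_le_normalizer _))).mp hb
        rw [mul_assoc, hyX x hx, ← mul_assoc, mem_centralizer_iff.mp hyL l hl, mul_assoc])))
    have h := Subgroup.eq_of_le_of_card_ge (le_sup_left : B ≤ B ⊔ zpowers y)
      ((hmaxA _ (sup_le hBS (zpowers_le.mpr (hQS (hCQ hyC)))) hBy).trans hBcard)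
    exact h.ge (mem_sup_right (mem_zpowers y))
  obtain ⟨l, hl, x, hx, hlx⟩ := (CfsgLib.Solvable.mem_sup_of_le_normalizer
    ((le_centralizer_iff.mp hLX).trans (centralizer_le_normalizer _))).mp hyB
  have hgy : ⁅g, y⁆ ∈ Z := by
    rw [← hlx, comm_mul_right, comm_eq_one (LocEven.commute_of_comm hA hg (mem_inf.mp hx).1),
      mul_one, mul_inv_cancel, mul_one]
    exact hZn' g hg l (hLZ hl)
  have e : iter g 3 c = z * y := by rw [hy]; group
  rw [iter_succ, e, comm_mul_right]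
  exact mul_mem (hZn' g hg z hzZ) (hZn.conj_mem _ hgy z)

end Local

end CfsgLib.JTransfer
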