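import Cfsg.Agent.Lib.JTransfer.Engel
import Cfsg.Agent.Lib.PLocal.Families

/-!
If the Thompson subgroup of a Sylow subgroup is not normal, some element outside `O_p` has Engel
index six on the chief factors below `O_p`.
-/

set_option autoImplicit false
set_option linter.style.haveILetI false

open scoped commutatorElement IsMulCommutative

namespace CfsgLib.JTransfer

open Subgroup
open CfsgLib.KInf (cenIn)
open CfsgLib.ConjFunctor

variable {G : Type*} [Group G] [Finite G] {p : ℕ} [Fact p.Prime]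

/-- An element acts with index `n` on a chief factor as soon as it does so on a set of coset
representatives. -/
theorem iterCommutator_chief_le {U V : Subgroup G} (hc : Cfsg.IsChiefFactor U V)
    (hU : U ≤ Cfsg.pCore p G) {g : G} {n : ℕ}
    (h : ∀ u ∈ U, ∃ w ∈ U, u⁻¹ * w ∈ V ∧ iter g n w ∈ V) :
    Cfsg.iterCommutator U (zpowers g) n ≤ V := by
  haveI := hc.2.1
  haveI := hc.2.2.1
  haveI : IsMulCommutative ↥(secImage U V) := secImage_comm
    (le_trans (commutator_mono le_rfl hU) (commutator_chief_le le_rfl hc hU))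
  rw [iterCommutator_zpowers_le_iff]
  refine AddMonoidHom.ext fun x => ?_
  obtain ⟨u, rfl⟩ := secClass_surjective U V x
  obtain ⟨w, hw, hwV, hwn⟩ := h u u.2
  rw [show secClass U V u = secClass U V ⟨w, hw⟩ from (secClass_eq_iff U V).2 hwV]
  exact (pow_secClass U V g n _).trans ((secClass_eq_zero U V).2 hwn)

theorem iterCommutator_chief_le' {U V : Subgroup G} (hc : Cfsg.IsChiefFactor U V)
    (hU : U ≤ Cfsg.pCore p G) {g : G} {n : ℕ} (h : ∀ u ∈ U, iter g n u ∈ V) :
    Cfsg.iterCommutator U (zpowers g) n ≤ V :=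
  iterCommutator_chief_le hc hU fun u hu =>
    ⟨u, hu, by rw [inv_mul_cancel]; exact one_mem V, h u hu⟩

omit [Finite G] [Fact p.Prime] in
/-- The two counts attached to a subgroup, ordered lexicographically. -/
theorem le_of_key_le {a b c d N : ℕ} (hd : d < N) (h : a * N + c ≤ b * N + d) : a ≤ b := by
  by_contra hlt
  have h1 : (b + 1) * N ≤ a * N := Nat.mul_le_mul_right N (by omega)
  rw [add_mul, one_mul] at h1
  omega

/-- The engine for control of transfer by the Thompson subgroup. -/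
theorem exists_engel_element (S : Sylow p G)
    (hJ : ¬ (Cfsg.thompsonSubgroupAOf (S : Subgroup G)).Normal) :
    ∃ g : G, g ∈ (S : Subgroup G) ∧ g ∉ Cfsg.pCore p G ∧
      ∀ U V : Subgroup G, Cfsg.IsChiefFactor U V → U ≤ Cfsg.pCore p G →
        Cfsg.iterCommutator U (zpowers g) 6 ≤ V := by
  classical
  set Q := Cfsg.pCore p G with hQ
  have hQn : Q.Normal := CfsgLib.Solvable.pCore_normal p G
  have hQS : Q ≤ (S : Subgroup G) := CfsgLib.Solvable.pCore_le_sylow S
  have hne : ∃ A, PLoc.IsMaxAb 0 (S : Subgroup G) A ∧ ¬ A ≤ Q := by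
    by_contra hcon
    push Not at hcon
    refine hJ ⟨fun x hx g => ?_⟩
    rw [PLoc.joinMaxAb_zero] at hx ⊢
    refine (show PLoc.joinMaxAb 0 (S : Subgroup G) ≤
      (PLoc.joinMaxAb 0 (S : Subgroup G)).comap (MulAut.conj g).toMonoidHom from
        sSup_le fun A hA => map_le_iff_le_comap.mp (PLoc.le_joinMaxAb ⟨?_, ?_, ?_, ?_⟩)) hx
    · rintro _ ⟨a, ha, rfl⟩
      exact hQS (hQn.conj_mem a (hcon A hA ha) g)
    · haveI := hA.comm
      infer_instance
    · exact fun a _ => pow_zero a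
    · intro B hB hBc _
      rw [Subgroup.card_map_of_injective (MulAut.conj g).injective]
      exact hA.max B hB hBc fun a _ => pow_zero a
  obtain ⟨C, hCn, hCQ, -, hQC, hCC, -⟩ := KInf.exists_critical_in_pCore (G := G) (p := p)
  haveI := hCn
  set Z := cenIn C with hZdef
  have hZc : IsMulCommutative Z := cenIn_comm C
  have hZn : Z.Normal := normal_cenIn hCn
  have hZQ : Z ≤ Q := inf_le_left.trans hCQ
  set N := Nat.card G + 1 with hN
  have hlt : ∀ B : Subgroup G, Nat.card ↥(B ⊓ Z) < N := fun B =>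
    Nat.lt_succ_of_le (Subgroup.card_le_card_group _)
  obtain ⟨A, ⟨hA, hAQ⟩, hkey⟩ := Set.exists_max_image
    {A : Subgroup G | PLoc.IsMaxAb 0 (S : Subgroup G) A ∧ ¬ A ≤ Q}
    (fun A => Nat.card ↥(A ⊓ Q) * N + Nat.card ↥(A ⊓ Z)) (Set.toFinite _) hne
  have hmaxA : ∀ B : Subgroup G, B ≤ (S : Subgroup G) → IsMulCommutative B →
      Nat.card B ≤ Nat.card A := fun B h1 h2 => hA.max B h1 h2 fun a _ => pow_zero a
  have hkeyB : ∀ B : Subgroup G, B ≤ (S : Subgroup G) → IsMulCommutative B →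
      Nat.card A ≤ Nat.card B → ¬ B ≤ Q →
      Nat.card ↥(B ⊓ Q) * N + Nat.card ↥(B ⊓ Z) ≤ Nat.card ↥(A ⊓ Q) * N + Nat.card ↥(A ⊓ Z) :=
    fun B h1 h2 h3 h4 => hkey B
      ⟨⟨h1, h2, fun a _ => pow_zero a, fun D g1 g2 _ => (hmaxA D g1 g2).trans h3⟩, h4⟩
  obtain ⟨g, hgA, hgQ⟩ := SetLike.not_le_iff_exists.mp hAQ
  refine ⟨g, hA.le hgA, hgQ, fun U V hc hU => ?_⟩
  haveI := hc.2.1
  haveI := hc.2.2.1
  by_cases hquad : ∀ a ∈ A, ∀ u ∈ Z, ⁅a, u⁆ ∈ A
  · refine engel_of_critical (P := Q) (Q := C) (i := 5) (j := 2) le_rfl hCQ hQC hCC (by omega)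
      (fun U' V' hc' hU' => iterCommutator_chief_le' hc' (hU'.trans hCQ) fun u hu => ?_)
      (fun U' V' hc' hU' => iterCommutator_chief_le' hc' (hU'.trans hZQ) fun u hu => ?_) hc hU
    · rw [iter_five_eq_one hCn hQC S.isPGroup' hQn hQS hCQ hA.le hA.comm hmaxA
        (fun B h1 h2 h3 h4 => le_of_key_le (hlt A) (hkeyB B h1 h2 h3 h4)) hquad hgA (hU' hu)]
      exact one_mem V'
    · have h1 : iter g 2 u = 1 :=
        comm_eq_one (LocEven.commute_of_comm hA.comm hgA (hquad g hgA u (hU' hu)))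
      rw [h1]
      exact one_mem V'
  push Not at hquad
  have hR : ∀ u ∈ cenIn C, ¬ commSet A u ≤ A → A ⊓ centralizer (commSet A u : Set G) ≤ Q := by
    intro u hu hMA
    by_contra hKQ
    have hy : ∀ a ∈ A, ⁅a, u⁆ ∈ Z := fun a _ => comm_mem_of_normal hZn a hu
    obtain ⟨hBc, hBcard⟩ := le_card_sup hA.comm hZc hy
    have hineq := card_mul_inf_le hA.comm hZc hy
    set M := commSet A u with hM
    set K := A ⊓ centralizer (M : Set G) with hK
    have hMZ : M ≤ Z := commSet_le hy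
    have hMc : M ≤ centralizer (M : Set G) :=
      (hMZ.trans (LocEven.le_centralizer_self hZc)).trans (centralizer_le hMZ)
    have h1 := hkeyB _ (sup_le ((hMZ.trans hZQ).trans hQS) (inf_le_left.trans hA.le)) hBc hBcard
      fun h => hKQ (le_sup_right.trans h)
    have hAZK : A ⊓ Z ≤ K :=
      inf_le_inf_left A ((LocEven.le_centralizer_self hZc).trans (centralizer_le hMZ))
    have h2 : Nat.card ↥(A ⊓ Z) < Nat.card ↥((M ⊔ K) ⊓ Z) := by
      have hle : A ⊓ Z ≤ (M ⊔ K) ⊓ Z := le_inf (hAZK.trans le_sup_right) inf_le_right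
      refine lt_of_le_of_ne (Subgroup.card_le_of_le hle) fun h => hMA ?_

      exact (le_inf le_sup_left hMZ).trans
        ((Subgroup.eq_of_le_of_card_ge hle h.ge).ge.trans inf_le_left)
    have h3 : Nat.card ↥(A ⊓ Q) ≤ Nat.card ↥((M ⊔ K) ⊓ Q) := by
      refine le_trans ?_ (Subgroup.card_le_of_le (show M ⊔ (K ⊓ Q) ≤ (M ⊔ K) ⊓ Q from
        le_inf (sup_le_sup_left inf_le_left M) (sup_le (hMZ.trans hZQ) inf_le_right)))
      have e1 := card_sup_mul_card_inf_of_comm (M := M) (K := K ⊓ Q)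
        ((le_centralizer_iff.mp (inf_le_right : K ≤ centralizer (M : Set G))).trans
          (centralizer_le inf_le_left))
      have e2 : M ⊓ (K ⊓ Q) = M ⊓ A := le_antisymm
        (inf_le_inf_left M (inf_le_left.trans inf_le_left))
        (le_inf inf_le_left (le_inf (le_inf inf_le_right (inf_le_left.trans hMc))
          (inf_le_left.trans (hMZ.trans hZQ))))
      rw [e2] at e1
      have e3 := card_sup_mul_card_inf_of_comm (M := A ⊓ Q) (K := K)
        ((inf_le_left.trans (LocEven.le_centralizer_self hA.comm)).trans (centralizer_le inf_le_left))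
      have e4 : A ⊓ Q ⊓ K = K ⊓ Q := le_antisymm (le_inf inf_le_right (inf_le_left.trans inf_le_right))
        (le_inf (le_inf (inf_le_left.trans inf_le_left) inf_le_right) inf_le_left)
      rw [e4] at e3
      have e5 : Nat.card ↥(A ⊓ Q ⊔ K) ≤ Nat.card A :=
        Subgroup.card_le_of_le (sup_le inf_le_left inf_le_left)
      rw [inf_comm M A] at e1
      rw [inf_comm M A] at hineq
      refine Nat.le_of_mul_le_mul_right ?_
        (Nat.mul_pos (Nat.card_pos (α := K)) (Nat.card_pos (α := ↥(A ⊓ M))))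
      calc Nat.card ↥(A ⊓ Q) * (Nat.card K * Nat.card ↥(A ⊓ M))
          = Nat.card ↥(A ⊓ Q ⊔ K) * Nat.card ↥(K ⊓ Q) * Nat.card ↥(A ⊓ M) := by rw [e3]; ring
        _ ≤ Nat.card A * Nat.card ↥(K ⊓ Q) * Nat.card ↥(A ⊓ M) :=
            Nat.mul_le_mul_right _ (Nat.mul_le_mul_right _ e5)
        _ = Nat.card A * Nat.card ↥(A ⊓ M) * Nat.card ↥(K ⊓ Q) := by ring
        _ ≤ Nat.card M * Nat.card K * Nat.card ↥(K ⊓ Q) := Nat.mul_le_mul_right _ hineq
        _ = Nat.card K * (Nat.card M * Nat.card ↥(K ⊓ Q)) := by ring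
        _ = Nat.card ↥(M ⊔ K ⊓ Q) * (Nat.card K * Nat.card ↥(A ⊓ M)) := by rw [← e1]; ring
    have h4 := Nat.mul_le_mul_right N h3
    rw [← hK] at h1
    omega
  obtain ⟨h3, h4⟩ := iter_four_mem hCn hQC S.isPGroup' hQn hQS hCQ hA.le hA.comm hmaxA hR hquad hgA
  have hdeg : ∀ U' V' : Subgroup G, Cfsg.IsChiefFactor U' V' → U' ≤ Q →
      ∀ w ∈ U', w ∈ Z → iter g 3 w ∈ V' := by
    intro U' V' hc' hU' w hw hwZ
    haveI := hc'.2.1
    obtain ⟨x, hx, e⟩ := h3 w hwZ
    rw [e]
    refine commutator_chief_le le_rfl hc' hU' ?_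
    rw [commutator_comm]
    exact commutator_mem_commutator hx (commStep_mem hw 1)
  refine engel_of_critical (P := Q) (Q := C) (i := 4) (j := 3) le_rfl hCQ hQC hCC (by omega)
    (fun U' V' hc' hU' => ?_)
    (fun U' V' hc' hU' => iterCommutator_chief_le' hc' (hU'.trans hZQ) fun u hu =>
      hdeg U' V' hc' (hU'.trans hZQ) u hu (hU' hu)) hc hU
  haveI := hc'.2.1
  haveI := hc'.2.2.1
  rcases hc'.2.2.2 (U' ⊓ Z ⊔ V') inferInstance le_sup_right (sup_le inf_le_left hc'.1.le) with h | h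
  · refine iterCommutator_chief_le' hc' (hU'.trans hCQ) fun u hu => h.le (mem_sup_left ?_)
    exact mem_inf.mpr ⟨commStep_mem hu 4, h4 u (hU' hu)⟩
  · refine iterCommutator_chief_le hc' (hU'.trans hCQ) fun u hu => ?_
    obtain ⟨w, hw, v, hv, he⟩ := (CfsgLib.Solvable.mem_sup_of_le_normalizer
      (le_normalizer_of_normal (H := U' ⊓ Z))).1 (h.ge hu)
    refine ⟨w, (mem_inf.mp hw).1, ?_, ?_⟩
    · rw [← he, mul_inv_rev, mul_assoc, inv_mul_cancel, mul_one]
      exact inv_mem hv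
    · rw [iter_succ]
      exact comm_mem_of_normal hc'.2.2.1 g (hdeg U' V' hc' (hU'.trans hCQ) w (mem_inf.mp hw).1 (mem_inf.mp hw).2)

end CfsgLib.JTransfer
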