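import Cfsg.Agent.Lib.JTransfer.Main
import Cfsg.Agent.Lib.ConjFunctor.TransferMain
import Cfsg.Agent.Lib.Transfer.Tate
import Cfsg.Agent.Lib.LocEven.Replacement

/-!
The Thompson subgroup controls transfer for primes at least seven.
-/

set_option autoImplicit false
set_option linter.style.haveILetI false

namespace CfsgLib.JTransfer

open CfsgLib.ConjFunctor

universe u

theorem isCharPFunctor_thompsonA (p : ℕ) :
    Cfsg.IsCharPFunctor.{u} p Cfsg.thompsonSubgroupA.{u} := by
  refine ⟨fun Q _ _ _ _ h => ?_, fun Q R _ _ _ _ φ => ?_⟩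
  · obtain ⟨A, hA⟩ := LocEven.exists_maxAbelian (G := Q)
    have hAbot : A = ⊥ := le_bot_iff.mp (h ▸ (le_sSup hA : A ≤ Cfsg.thompsonSubgroupA Q))
    obtain ⟨x, hx⟩ := exists_ne (1 : Q)
    have h1 := hA.2 (Subgroup.zpowers x) inferInstance
    rw [hAbot, Subgroup.card_bot] at h1
    exact hx (Subgroup.zpowers_eq_bot.mp (Subgroup.eq_bot_of_card_le _ h1))
  · refine le_antisymm (Subgroup.map_le_iff_le_comap.mpr (sSup_le fun A hA =>
      Subgroup.map_le_iff_le_comap.mp (le_sSup (LocEven.maxAbelian_map_equiv φ hA))))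
      (sSup_le fun B hB => ?_)
    have h1 : B.map φ.symm.toMonoidHom ≤ Cfsg.thompsonSubgroupA Q :=
      le_sSup (LocEven.maxAbelian_map_equiv φ.symm hB)
    intro b hb
    exact ⟨φ.symm b, h1 ⟨b, hb, rfl⟩, φ.apply_symm_apply b⟩

variable {G : Type u} [Group G] [Finite G] {p : ℕ} [Fact p.Prime]

/-- `S ∩ G'` is `S ∩ N'` for the normalizer `N` of the Thompson subgroup. -/
theorem inf_commutator_eq (hp : 7 ≤ p) (S : Sylow p G) :
    (S : Subgroup G) ⊓ commutator G = (S : Subgroup G) ⊓
      ⁅Subgroup.normalizer (Cfsg.thompsonSubgroupAOf (S : Subgroup G) : Set G),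
        Subgroup.normalizer (Cfsg.thompsonSubgroupAOf (S : Subgroup G) : Set G)⁆ := by
  refine (controlsTransfer_sections (W := Cfsg.thompsonSubgroupA.{u}) (isCharPFunctor_thompsonA p)
    (fun H _ _ _ => transferInput_of_engel H fun _ T hn => ?_) G isSec_self S).2
  obtain ⟨g, hg, hgP, h⟩ := exists_engel_element T hn
  refine ⟨g, hg, hgP, fun U V hc hU => ?_⟩
  haveI := hc.2.2.1
  exact iterCommutator_le_of_le (h U V hc hU) (by omega)

/-- The largest `p`-factor group is that of the normalizer of the Thompson subgroup. -/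
theorem nonempty_quotient_equiv (hp : 7 ≤ p) (S : Sylow p G)
    [(Cfsg.pResidual p G).Normal]
    [(Cfsg.pResidual p
      ↥(Subgroup.normalizer (Cfsg.thompsonSubgroupAOf (S : Subgroup G) : Set G))).Normal] :
    Nonempty (G ⧸ Cfsg.pResidual p G ≃*
      ↥(Subgroup.normalizer (Cfsg.thompsonSubgroupAOf (S : Subgroup G) : Set G)) ⧸
        Cfsg.pResidual p
          ↥(Subgroup.normalizer (Cfsg.thompsonSubgroupAOf (S : Subgroup G) : Set G))) := by
  have h := inf_commutator_eq hp S
  set N := Subgroup.normalizer (Cfsg.thompsonSubgroupAOf (S : Subgroup G) : Set G) with hN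
  have hSN : (S : Subgroup G) ≤ N := Subgroup.le_normalizer_map (H := Cfsg.thompsonSubgroupA ↥(S : Subgroup G))
    (S : Subgroup G).subtype |>.trans' ?_
  · have htate := CfsgLib.Transfer.tate_of_commutator S N hSN
      ((inf_comm _ _).trans_le (h.trans_le inf_le_right))
    let f : ↥N →* G ⧸ Cfsg.pResidual p G := (QuotientGroup.mk' _).comp N.subtype
    have hker : f.ker = Cfsg.pResidual p ↥N := by
      rw [← htate]
      ext x
      simp [f, Subgroup.mem_subgroupOf, MonoidHom.mem_ker]
    have hsurj : Function.Surjective f := by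
      intro y
      obtain ⟨x, rfl⟩ := QuotientGroup.mk'_surjective _ y
      obtain ⟨a, ha, s, hs, rfl⟩ := Subgroup.mem_sup_of_normal_left.mp
        (show x ∈ Cfsg.pResidual p G ⊔ (S : Subgroup G) by
          rw [CfsgLib.Transfer.pResidual_sup_of_sylow]; exact Subgroup.mem_top x)
      refine ⟨⟨s, hSN hs⟩, ?_⟩
      show QuotientGroup.mk' (Cfsg.pResidual p G) s = _
      rw [map_mul, (QuotientGroup.eq_one_iff a).mpr ha |> fun e : QuotientGroup.mk' _ a = 1 => e,
        one_mul]
    exact ⟨((QuotientGroup.quotientMulEquivOfEq hker.symm).trans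
      (QuotientGroup.quotientKerEquivOfSurjective f hsurj)).symm⟩
  · intro x hx
    haveI : (Cfsg.thompsonSubgroupA ↥(S : Subgroup G)).Normal := ⟨fun a ha g =>
      ((isCharPFunctor_thompsonA p).2 _ _ S.isPGroup' (MulAut.conj g)).le ⟨a, ha, rfl⟩⟩
    exact ⟨⟨x, hx⟩, by rw [Subgroup.normalizer_eq_top]; exact Subgroup.mem_top _, rfl⟩

end CfsgLib.JTransfer
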